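import Mathlib

/-!
# Tensoring a localization which is a DVR with an algebraic extension of the fraction field
(helper5, for S17020 / S17019)
-/

set_option autoImplicit false
universe u

namespace Groth.Agent.H5.GenStalk

open TensorProduct

/-- a localization of a discrete valuation ring inverting a nonzero element of the maximal ideal
is a field. -/
theorem isField_localization_dvr (B : Type*) [CommRing B] [IsDomain B] [IsDiscreteValuationRing B]
    (T : Submonoid B) (hT : T ≤ nonZeroDivisors B) (t : B) (htT : t ∈ T)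
    (ht : t ∈ IsLocalRing.maximalIdeal B) (S : Type*) [CommRing S] [Algebra B S]
    [IsLocalization T S] : IsField S := by
  haveI : IsDomain S := IsLocalization.isDomain_of_le_nonZeroDivisors S hT
  obtain ⟨ϖ, hϖ⟩ := IsDiscreteValuationRing.exists_irreducible B
  have ht0 : t ≠ 0 := nonZeroDivisors.ne_zero (hT htT)
  obtain ⟨m, v, hv⟩ := IsDiscreteValuationRing.eq_unit_mul_pow_irreducible ht0 hϖ
  have hm : m ≠ 0 := by
    rintro rfl
    rw [pow_zero, mul_one] at hv
    rw [IsLocalRing.mem_maximalIdeal, mem_nonunits_iff] at ht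
    exact ht (hv ▸ v.isUnit)
  have hϖu : IsUnit (algebraMap B S ϖ) := by
    have h1 : IsUnit (algebraMap B S t) := IsLocalization.map_units S ⟨t, htT⟩
    obtain ⟨m', rfl⟩ := Nat.exists_eq_succ_of_ne_zero hm
    have h2 : t = ϖ * ((v : B) * ϖ ^ m') := by
      rw [hv, pow_succ]
      ring
    rw [h2, map_mul] at h1
    exact isUnit_of_mul_isUnit_left h1
  refine ⟨exists_pair_ne S, mul_comm, fun {x} hx => ?_⟩
  obtain ⟨b, s, rfl⟩ := IsLocalization.exists_mk'_eq T x
  have hb0 : b ≠ 0 := by
    rintro rfl
    exact hx (IsLocalization.mk'_zero s)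
  obtain ⟨n, u, hu⟩ := IsDiscreteValuationRing.eq_unit_mul_pow_irreducible hb0 hϖ
  have hbu : IsUnit (algebraMap B S b) := by
    rw [hu, map_mul, map_pow]
    exact (u.isUnit.map _).mul (hϖu.pow n)
  have hxu : IsUnit (IsLocalization.mk' S b s) := by
    rw [IsLocalization.mk'_eq_mul_mk'_one]
    refine hbu.mul ?_
    have h3 : IsLocalization.mk' S (1 : B) s * algebraMap B S s = 1 := by
      rw [IsLocalization.mk'_spec, map_one]
    exact IsUnit.of_mul_eq_one _ h3
  obtain ⟨y, hy⟩ := hxu.exists_right_inv
  exact ⟨y, hy⟩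

variable (R : Type u) [CommRing R] [IsDomain R] [IsDiscreteValuationRing R]

/-- `Frac R ⊗_R B` is a field for a DVR `B` dominating injectively the DVR `R`. -/
theorem isField_fractionRing_tensor (B : Type u) [CommRing B] [IsDomain B]
    [IsDiscreteValuationRing B] [Algebra R B] [IsLocalHom (algebraMap R B)]
    (hinj : Function.Injective (algebraMap R B)) : IsField (B ⊗[R] FractionRing R) := by
  obtain ⟨π, hπ⟩ := IsDiscreteValuationRing.exists_irreducible R
  have hle : Algebra.algebraMapSubmonoid B (nonZeroDivisors R) ≤ nonZeroDivisors B := by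
    rintro _ ⟨r, hr, rfl⟩
    refine mem_nonZeroDivisors_of_ne_zero ?_
    rw [Ne, map_eq_zero_iff _ hinj]
    exact nonZeroDivisors.ne_zero hr
  refine isField_localization_dvr B (Algebra.algebraMapSubmonoid B (nonZeroDivisors R)) hle
    (algebraMap R B π) ⟨π, mem_nonZeroDivisors_of_ne_zero hπ.ne_zero, rfl⟩ ?_
    (B ⊗[R] FractionRing R)
  rw [IsLocalRing.mem_maximalIdeal, mem_nonunits_iff]
  intro h
  exact hπ.not_isUnit (isUnit_of_map_unit (algebraMap R B) π h)


/-- **algebraic core of S17020**: if `E ⊗_R A` is a domain, `A` is flat over the DVR `R`, `B = A_𝔭`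
is a DVR dominating `R`, and `E` is algebraic over `Frac R`, then `E ⊗_R B` is a field. -/
theorem isField_tensor_of_isDomain
    (E : Type u) [Field E] [Algebra R E] [Algebra (FractionRing R) E]
    [IsScalarTower R (FractionRing R) E] [Algebra.IsAlgebraic (FractionRing R) E]
    (A : Type u) [CommRing A] [Algebra R A] [Module.Flat R A]
    (B : Type u) [CommRing B] [IsDomain B] [IsDiscreteValuationRing B] [Algebra R B] [Algebra A B]
    [IsScalarTower R A B] (𝔭 : Ideal A) [𝔭.IsPrime] [IsLocalization.AtPrime B 𝔭]
    [IsLocalHom (algebraMap R B)] (hinj : Function.Injective (algebraMap R B))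
    (hdom : IsDomain (E ⊗[R] A)) : IsField (E ⊗[R] B) := by
  -- Step 1: `E ⊗ B` is a domain
  have hRE : Function.Injective (algebraMap R E) := by
    rw [IsScalarTower.algebraMap_eq R (FractionRing R) E]
    exact (algebraMap (FractionRing R) E).injective.comp (IsFractionRing.injective R (FractionRing R))
  haveI hdomB : IsDomain (E ⊗[R] B) := by
    letI : Algebra (E ⊗[R] A) (E ⊗[R] B) :=
      (Algebra.TensorProduct.map (AlgHom.id E E) (IsScalarTower.toAlgHom R A B)).toRingHom.toAlgebra
    haveI : IsScalarTower E (E ⊗[R] A) (E ⊗[R] B) :=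
      IsScalarTower.of_algebraMap_eq' (by
        ext e
        simp [RingHom.algebraMap_toAlgebra, Algebra.TensorProduct.algebraMap_apply])
    have H : (algebraMap (E ⊗[R] A) (E ⊗[R] B)).comp
        (Algebra.TensorProduct.includeRight : A →ₐ[R] E ⊗[R] A).toRingHom =
        (Algebra.TensorProduct.includeRight : B →ₐ[R] E ⊗[R] B).toRingHom.comp (algebraMap A B) := by
      ext a
      simp [RingHom.algebraMap_toAlgebra]
    haveI := IsLocalization.tensorProduct_tensorProduct_right R E 𝔭.primeCompl B H
    refine IsLocalization.isDomain_of_le_nonZeroDivisors (E ⊗[R] B)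
      (M := 𝔭.primeCompl.map (Algebra.TensorProduct.includeRight (R := R) (A := E))) ?_
    rintro _ ⟨a, ha, rfl⟩
    refine mem_nonZeroDivisors_of_ne_zero ?_
    have hinc := Algebra.TensorProduct.includeRight_injective (R := R) (A := E) (B := A) hRE
    intro h0
    have : a = 0 := hinc (by rw [h0, map_zero])
    subst this
    exact ha (zero_mem 𝔭)
  -- Step 2: it is integral over the field `Frac R ⊗ B`
  have hKB : IsField (FractionRing R ⊗[R] B) :=
    (Algebra.TensorProduct.comm R (FractionRing R) B).toRingEquiv.toMulEquiv.isField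
      (isField_fractionRing_tensor R B hinj)
  let ρ : (FractionRing R ⊗[R] B) ⊗[FractionRing R] E ≃+* E ⊗[R] B :=
    (Algebra.TensorProduct.comm (FractionRing R) (FractionRing R ⊗[R] B) E).toRingEquiv.trans
      (Algebra.TensorProduct.cancelBaseChange R (FractionRing R) E E B).toRingEquiv
  haveI : IsDomain ((FractionRing R ⊗[R] B) ⊗[FractionRing R] E) :=
    ρ.injective.isDomain ρ.toRingHom
  have h1 : IsField ((FractionRing R ⊗[R] B) ⊗[FractionRing R] E) :=
    isField_of_isIntegral_of_isField' (R := FractionRing R ⊗[R] B)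
      (S := (FractionRing R ⊗[R] B) ⊗[FractionRing R] E) hKB
  exact ρ.symm.toMulEquiv.isField h1

end Groth.Agent.H5.GenStalk
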