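import Mathlib
import Groth.Agent.Lib.Helper5.ArS.FibDec
import Groth.Agent.Lib.Helper5.ArS.SpFibIso
import Groth.Agent.Lib.Helper5.Glue.C
import Groth.Agent.Lib.Helper2.EtI
import Groth.Agent.Lib.Helper2.HomSh5
import Groth.Agent.S0002
import Groth.Agent.Lib.Lead.PD.ConnH1

/-!
# `Γ(X, O_X) = R` for a proper flat scheme over a DVR with connected reduced closed fibre
(helper5, for S17020)
-/

set_option autoImplicit false
set_option linter.style.haveILetI false
universe u
open CategoryTheory CategoryTheory.Limits AlgebraicGeometry TopologicalSpace Opposite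

namespace Groth.Agent.H5.GenStalk

open Groth.Agent.H5.ArS Groth.Agent.H5.Glue

variable {R : Type u} [CommRing R] [IsDomain R] [IsDiscreteValuationRing R]

section division

variable (X : Over (Spec (CommRingCat.of R))) [Flat X.hom]

lemma res_toSec {V V' : X.left.Opens} (h : V' ≤ V) (r : R) :
    res h (toSec X V r) = toSec X V' r := by
  unfold toSec
  simp only [RingHom.coe_comp, Function.comp_apply]
  exact res_res (le_top : V ≤ ⊤) h _

lemma toSec_eq_res (V : X.left.Opens) (r : R) :
    toSec X V r = res (le_top : V ≤ ⊤) (Coh.toGlobal X.hom r) := rfl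

/-- a global function lying locally in the ideal of the closed fibre is divisible by the
uniformizer. -/
theorem exists_eq_mul_of_mem_specialFibreIdeal (ϖ : R) (hϖ : Irreducible ϖ) (s : Γ(X.left, ⊤))
    (hs : ∀ V : X.left.affineOpens,
      res (le_top : V.1 ≤ ⊤) s ∈ (Models.specialFibreIdeal R X).ideal V) :
    ∃ a : Γ(X.left, ⊤), s = (show Γ(X.left, ⊤) from Coh.toGlobal X.hom ϖ) * a := by
  have key : ∀ V : X.left.affineOpens, ∃ a : Γ(X.left, V.1),
      res (le_top : V.1 ≤ ⊤) s = toSec X V.1 ϖ * a := by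
    intro V
    have h := hs V
    rw [specialFibreIdeal_ideal, hϖ.maximalIdeal_eq, Ideal.map_span, Set.image_singleton,
      Ideal.mem_span_singleton] at h
    obtain ⟨c, hc⟩ := h
    exact ⟨c, hc⟩
  choose a ha using key
  have compat : ∀ V V' : X.left.affineOpens, ∀ h : V'.1 ≤ V.1, res h (a V) = a V' := by
    intro V V' h
    have h1 : toSec X V'.1 ϖ * res h (a V) = toSec X V'.1 ϖ * a V' := by
      rw [← ha V', ← res_toSec X h, ← map_mul, ← ha V, res_res]
    have hnzd := toSec_mem_nonZeroDivisors (X := X) V'.2 ϖ hϖ.ne_zero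
    have h2 : (res h (a V) - a V') * toSec X V'.1 ϖ = 0 := by
      rw [sub_mul, mul_comm, h1, mul_comm, sub_self]
    exact sub_eq_zero.mp ((mul_right_mem_nonZeroDivisors_eq_zero_iff hnzd).mp h2)
  have hcov : ∀ T : X.left.Opens, T ≤ ⨆ W : {W : X.left.affineOpens // W.1.1 ≤ T}, W.1.1 := by
    intro T x hx
    obtain ⟨W, hW, hxW, hWT⟩ := exists_isAffineOpen_mem_and_subset (x := x) (U := T) hx
    exact Opens.mem_iSup.mpr ⟨⟨⟨W, hW⟩, hWT⟩, hxW⟩
  obtain ⟨g, hg, -⟩ := existsUnique_glue_fn (fun V : X.left.affineOpens => V.1) ⊤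
    (fun V => le_top) (fun x _ => by
      obtain ⟨W, hW, hxW, -⟩ := exists_isAffineOpen_mem_and_subset (x := x)
        (U := (⊤ : X.left.Opens)) trivial
      exact Opens.mem_iSup.mpr ⟨⟨W, hW⟩, hxW⟩) a (by
    intro V V'
    apply fn_ext_of_cover (fun W : {W : X.left.affineOpens // W.1.1 ≤ V.1 ⊓ V'.1} => W.1.1)
      (V.1 ⊓ V'.1) (fun W => W.2) (hcov _)
    intro W
    rw [res_res, res_res, compat V W.1 (W.2.trans inf_le_left),
      compat V' W.1 (W.2.trans inf_le_right)])
  refine ⟨g, ?_⟩
  apply fn_ext_of_cover (fun V : X.left.affineOpens => V.1) ⊤ (fun V => le_top) (fun x _ => by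
      obtain ⟨W, hW, hxW, -⟩ := exists_isAffineOpen_mem_and_subset (x := x)
        (U := (⊤ : X.left.Opens)) trivial
      exact Opens.mem_iSup.mpr ⟨⟨W, hW⟩, hxW⟩)
  intro V
  rw [map_mul, hg V, ha V]
  rfl

end division


section main

variable [IsAlgClosed (IsLocalRing.ResidueField R)] (X : Over (Spec (CommRingCat.of R)))
  {Xs : Scheme.{u}} (gs : Xs ⟶ X.left)
  (fs : Xs ⟶ Spec (CommRingCat.of (IsLocalRing.ResidueField R)))
  (hs : IsPullback gs fs X.hom (Spec.map (CommRingCat.ofHom (IsLocalRing.residue R))))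

include hs in
lemma ker_eq_specialFibreIdeal : gs.ker = Models.specialFibreIdeal R X := by
  haveI : IsClosedImmersion (Spec.map (CommRingCat.ofHom (IsLocalRing.residue R))) :=
    IsClosedImmersion.spec_of_surjective _ IsLocalRing.residue_surjective
  have h1 : gs = hs.isoPullback.hom ≫
      pullback.fst X.hom (Spec.map (CommRingCat.ofHom (IsLocalRing.residue R))) :=
    hs.isoPullback_hom_fst.symm
  rw [h1, Scheme.Hom.ker_comp_of_isIso, Scheme.IdealSheafData.ker_fst_of_isClosedImmersion,
    ker_SpecMap_residue]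
  rfl

include hs in
lemma appTop_toGlobal (r : R) :
    gs.appTop.hom (show Γ(X.left, ⊤) from Coh.toGlobal X.hom r) =
      (show Γ(Xs, ⊤) from Coh.toGlobal fs (IsLocalRing.residue R r)) := by
  change gs.appTop.hom (X.hom.appTop.hom ((Scheme.ΓSpecIso (CommRingCat.of R)).inv.hom r)) =
    fs.appTop.hom ((Scheme.ΓSpecIso (CommRingCat.of (IsLocalRing.ResidueField R))).inv.hom
      (IsLocalRing.residue R r))
  have h1 : X.hom.appTop ≫ gs.appTop =
      (Spec.map (CommRingCat.ofHom (IsLocalRing.residue R))).appTop ≫ fs.appTop := by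
    rw [← Scheme.Hom.comp_appTop, ← Scheme.Hom.comp_appTop, hs.w]
  have hnat := Scheme.ΓSpecIso_inv_naturality (CommRingCat.ofHom (IsLocalRing.residue R))
  have h2 : (Scheme.ΓSpecIso (CommRingCat.of (IsLocalRing.ResidueField R))).inv.hom
      (IsLocalRing.residue R r) =
      (Spec.map (CommRingCat.ofHom (IsLocalRing.residue R))).appTop.hom
        ((Scheme.ΓSpecIso (CommRingCat.of R)).inv.hom r) := by
    change (Scheme.ΓSpecIso (CommRingCat.of (IsLocalRing.ResidueField R))).inv.hom
      ((CommRingCat.ofHom (IsLocalRing.residue R)).hom r) = _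
    rw [← RingHom.comp_apply, ← RingHom.comp_apply, ← CommRingCat.hom_comp,
      ← CommRingCat.hom_comp, hnat]
  rw [h2, ← RingHom.comp_apply, ← RingHom.comp_apply, ← CommRingCat.hom_comp,
    ← CommRingCat.hom_comp, h1]
  rfl

include hs in
/-- **`Γ(X, O_X) = R`**: for a proper flat scheme over a DVR with algebraically closed residue
field whose closed fibre is connected and reduced. -/
theorem toGlobal_surjective [IsProper X.hom] [Flat X.hom] [ConnectedSpace Xs] [IsReduced Xs] :
    Function.Surjective (Coh.toGlobal X.hom) := by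
  classical
  obtain ⟨ϖ, hϖ⟩ := IsDiscreteValuationRing.exists_irreducible R
  -- the closed fibre has only constant functions
  haveI hpfs : IsProper fs := MorphismProperty.of_isPullback hs inferInstance
  haveI : IsClosedImmersion (Spec.map (CommRingCat.ofHom (IsLocalRing.residue R))) :=
    IsClosedImmersion.spec_of_surjective _ IsLocalRing.residue_surjective
  haveI : IsClosedImmersion gs := MorphismProperty.of_isPullback hs.flip inferInstance
  letI : Xs.Over (Spec (CommRingCat.of (IsLocalRing.ResidueField R))) := ⟨fs⟩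
  haveI : IsProper (Xs ↘ Spec (CommRingCat.of (IsLocalRing.ResidueField R))) := hpfs
  letI algs : Algebra (IsLocalRing.ResidueField R) Γ(Xs, ⊤) := (Coh.toGlobal fs).toAlgebra
  haveI hfin_s : Module.Finite (IsLocalRing.ResidueField R) Γ(Xs, ⊤) := by
    haveI := Groth.Agent.S0002.result (IsLocalRing.ResidueField R) Xs (Coh.structureModule Xs)
      (Groth.Agent.H2.HomSh.isCoh_structureModule Xs) 0
    exact Module.Finite.equiv (Groth.Agent.H2.EtH0.HH0LinΓ (IsLocalRing.ResidueField R) Xs)
  haveI : IsArtinianRing Γ(Xs, ⊤) := IsArtinianRing.of_finite (IsLocalRing.ResidueField R) _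
  haveI : Nonempty (⊤ : Xs.Opens) := ⟨⟨Classical.arbitrary _, trivial⟩⟩
  haveI : Nontrivial Γ(Xs, ⊤) := inferInstance
  have hfield : IsField Γ(Xs, ⊤) :=
    Groth.Agent.LD.PD.isField_of_artinian_reduced_idem _
      (fun e he => Groth.Agent.LD.FF.idem_trivial_of_connectedSpace Xs e he)
  haveI : IsDomain Γ(Xs, ⊤) := hfield.isDomain
  haveI : Algebra.IsIntegral (IsLocalRing.ResidueField R) Γ(Xs, ⊤) :=
    Algebra.IsIntegral.of_finite (IsLocalRing.ResidueField R) _
  have hsurj_s : Function.Surjective (Coh.toGlobal fs) :=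
    (IsAlgClosed.algebraMap_bijective_of_isIntegral
      (k := IsLocalRing.ResidueField R) (K := Γ(Xs, ⊤))).2
  -- finiteness of the global functions
  letI : X.left.Over (Spec (CommRingCat.of R)) := ⟨X.hom⟩
  letI alg : Algebra R Γ(X.left, ⊤) := (Coh.toGlobal X.hom).toAlgebra
  haveI : IsProper (X.left ↘ Spec (CommRingCat.of R)) := ‹IsProper X.hom›
  haveI hfin : Module.Finite R Γ(X.left, ⊤) := by
    haveI := Groth.Agent.S0002.result R X.left (Coh.structureModule X.left)
      (Groth.Agent.H2.HomSh.isCoh_structureModule X.left) 0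
    exact Module.Finite.equiv (Groth.Agent.H2.EtH0.HH0LinΓ R X.left)
  -- decomposition of a global function
  let φ : R →+* Γ(X.left, ⊤) := Coh.toGlobal X.hom
  have hφr : ∀ r, gs.appTop.hom (φ r) = (show Γ(Xs, ⊤) from Coh.toGlobal fs (IsLocalRing.residue R r)) :=
    fun r => appTop_toGlobal X gs fs hs r
  have hdecomp : ∀ s : Γ(X.left, ⊤), ∃ (r : R) (a : Γ(X.left, ⊤)),
      s = φ r + φ ϖ * a := by
    intro s
    obtain ⟨c, hc⟩ := hsurj_s (gs.appTop.hom s)
    obtain ⟨r, rfl⟩ := IsLocalRing.residue_surjective c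
    have h0 : gs.appTop.hom (s - φ r) = 0 := by
      rw [map_sub, hφr, ← hc, sub_self]
    obtain ⟨a, ha⟩ := exists_eq_mul_of_mem_specialFibreIdeal X ϖ hϖ
      (s - φ r) (fun V => by
        rw [← ker_eq_specialFibreIdeal X gs fs hs, Scheme.Hom.ker_apply, RingHom.mem_ker]
        have hn := gs.naturality (homOfLE (le_top : V.1 ≤ ⊤)).op
        have h2 : (gs.app V.1).hom (res (le_top : V.1 ≤ ⊤)
            (s - φ r)) =
            (Xs.presheaf.map ((Opens.map gs.base).map (homOfLE (le_top : V.1 ≤ ⊤))).op).hom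
              (gs.appTop.hom (s - φ r)) := by
          change (X.left.presheaf.map (homOfLE (le_top : V.1 ≤ ⊤)).op ≫ gs.app V.1).hom _ = _
          rw [hn]
          rfl
        rw [h2]
        exact (congrArg _ h0).trans (map_zero _))
    have h5 : s - φ r = φ ϖ * a := ha
    exact ⟨r, a, by rw [← h5]; ring⟩
  -- Nakayama
  have hle : (⊤ : Submodule R Γ(X.left, ⊤)) ≤ LinearMap.range (Algebra.linearMap R Γ(X.left, ⊤)) := by
    apply Submodule.le_of_le_smul_of_le_jacobson_bot (I := IsLocalRing.maximalIdeal R)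
      (Module.finite_def.mp hfin)
    · rw [IsLocalRing.jacobson_eq_maximalIdeal ⊥ bot_ne_top]
    · intro s _
      obtain ⟨r, a, hra⟩ := hdecomp s
      rw [hra]
      refine Submodule.add_mem_sup ⟨r, rfl⟩ ?_
      have h3 : φ ϖ * a = ϖ • a := by
        rw [Algebra.smul_def]
        rfl
      rw [h3]
      refine Submodule.smul_mem_smul ?_ Submodule.mem_top
      rw [hϖ.maximalIdeal_eq]
      exact Ideal.mem_span_singleton_self ϖ
  intro s
  obtain ⟨r, hr⟩ := hle (Submodule.mem_top (x := (show Γ(X.left, ⊤) from s)))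
  exact ⟨r, hr⟩

end main

end Groth.Agent.H5.GenStalk
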