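import Mathlib
import Groth.Agent.Lib.Helper5.ArS.GenTriv
import Groth.Agent.Lib.Helper5.ArS.FibConn
import Groth.Agent.Lib.Helper5.SD.GeoConn

/-!
# The generic fibre of a proper flat `R`-scheme with `Γ(X, O_X) = R` is geometrically integral
(helper5, for S17020)
-/

set_option autoImplicit false
set_option linter.style.haveILetI false
universe u
open CategoryTheory CategoryTheory.Limits AlgebraicGeometry TopologicalSpace Opposite

namespace Groth.Agent.H5.GenStalk

open Groth.Agent.H5.ArS

variable {R : Type u} [CommRing R] [IsDomain R] [IsDiscreteValuationRing R]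

section generic

variable {C X : Scheme.{u}} (f : C ⟶ Spec (CommRingCat.of (FractionRing R)))
  (p : X ⟶ Spec (CommRingCat.of R)) (g : C ⟶ X)
  (hpb : IsPullback g f p (Spec.map (CommRingCat.ofHom (algebraMap R (FractionRing R)))))

include hpb in
lemma appTop_toGlobal_generic (r : R) :
    g.appTop.hom (show Γ(X, ⊤) from Coh.toGlobal p r) =
      (show Γ(C, ⊤) from Coh.toGlobal f (algebraMap R (FractionRing R) r)) := by
  change g.appTop.hom (p.appTop.hom ((Scheme.ΓSpecIso (CommRingCat.of R)).inv.hom r)) =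
    f.appTop.hom ((Scheme.ΓSpecIso (CommRingCat.of (FractionRing R))).inv.hom
      (algebraMap R (FractionRing R) r))
  have h1 : p.appTop ≫ g.appTop =
      (Spec.map (CommRingCat.ofHom (algebraMap R (FractionRing R)))).appTop ≫ f.appTop := by
    rw [← Scheme.Hom.comp_appTop, ← Scheme.Hom.comp_appTop, hpb.w]
  have hnat := Scheme.ΓSpecIso_inv_naturality (CommRingCat.ofHom (algebraMap R (FractionRing R)))
  have h2 : (Scheme.ΓSpecIso (CommRingCat.of (FractionRing R))).inv.hom
      (algebraMap R (FractionRing R) r) =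
      (Spec.map (CommRingCat.ofHom (algebraMap R (FractionRing R)))).appTop.hom
        ((Scheme.ΓSpecIso (CommRingCat.of R)).inv.hom r) := by
    change (Scheme.ΓSpecIso (CommRingCat.of (FractionRing R))).inv.hom
      ((CommRingCat.ofHom (algebraMap R (FractionRing R))).hom r) = _
    rw [← RingHom.comp_apply, ← RingHom.comp_apply, ← CommRingCat.hom_comp,
      ← CommRingCat.hom_comp, hnat]
  rw [h2, ← RingHom.comp_apply, ← RingHom.comp_apply, ← CommRingCat.hom_comp,
    ← CommRingCat.hom_comp, h1]
  rfl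

include hpb in
/-- the generic fibre is the locus where the uniformizer is invertible. -/
lemma opensRange_eq_basicOpen (ϖ : R) (hϖ : Irreducible ϖ) :
    haveI := isOpenImmersion_of_isPullback f p g hpb
    g ''ᵁ ⊤ = X.basicOpen (show Γ(X, ⊤) from Coh.toGlobal p ϖ) := by
  haveI := isOpenImmersion_of_isPullback f p g hpb
  ext x
  rw [SetLike.mem_coe, SetLike.mem_coe, mem_basicOpen_toGlobal_iff p ϖ hϖ x]
  constructor
  · rintro ⟨c, -, rfl⟩
    intro hx
    have h1 : p.base (g.base c) = IsLocalRing.closedPoint R := hx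
    have h2 : p.base (g.base c) = (Spec.map (CommRingCat.ofHom
        (algebraMap R (FractionRing R)))).base (f.base c) := by
      rw [← Scheme.Hom.comp_apply, hpb.w, Scheme.Hom.comp_apply]
    rw [h2] at h1
    have h3 := congrArg PrimeSpectrum.asIdeal h1
    change Ideal.comap (algebraMap R (FractionRing R)) (f.base c).asIdeal =
      IsLocalRing.maximalIdeal R at h3
    have h4 : (f.base c).asIdeal = ⊥ := by
      have hmax : (⊥ : Ideal (FractionRing R)).IsMaximal := Ideal.bot_isMaximal
      by_contra hne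
      exact (f.base c).isPrime.ne_top (by
        rcases Ideal.eq_bot_or_top (f.base c).asIdeal with h | h
        · exact absurd h hne
        · exact h)
    rw [h4, ← RingHom.ker_eq_comap_bot,
      (RingHom.injective_iff_ker_eq_bot _).mp (IsFractionRing.injective R (FractionRing R))] at h3
    exact hϖ.not_isUnit (by
      have : ϖ ∈ IsLocalRing.maximalIdeal R := by
        rw [hϖ.maximalIdeal_eq]
        exact Ideal.mem_span_singleton_self ϖ
      rw [← h3] at this
      exact absurd (Ideal.mem_bot.mp this) hϖ.ne_zero)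
  · intro hx
    obtain ⟨c, rfl⟩ := mem_range_of_notMem_specialFibreSet f p g hpb x hx
    exact ⟨c, trivial, rfl⟩

include hpb in
/-- **the global functions of the generic fibre are the constants** if those of `X` are. -/
theorem toGlobal_surjective_generic [CompactSpace X] [QuasiSeparatedSpace X]
    (hX : Function.Surjective (Coh.toGlobal p)) : Function.Surjective (Coh.toGlobal f) := by
  obtain ⟨ϖ, hϖ⟩ := IsDiscreteValuationRing.exists_irreducible R
  haveI := isOpenImmersion_of_isPullback f p g hpb
  set π : Γ(X, ⊤) := Coh.toGlobal p ϖ with hπ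
  have key : ∀ (W : X.Opens) (hW : g ''ᵁ ⊤ = W) (hle : (⊤ : C.Opens) ≤ g ⁻¹ᵁ W),
      Function.Surjective (g.appLE W ⊤ hle).hom := by
    rintro W rfl hle
    have h1 : g.appLE (g ''ᵁ ⊤) ⊤ hle = (g.appIso ⊤).hom := (g.appIso_hom' ⊤).symm
    rw [h1]
    exact ((ConcreteCategory.isIso_iff_bijective (g.appIso ⊤).hom).mp inferInstance).2
  have hDle : (⊤ : C.Opens) ≤ g ⁻¹ᵁ X.basicOpen π := by
    rw [← opensRange_eq_basicOpen f p g hpb ϖ hϖ]
    exact (g.preimage_image_eq ⊤).ge
  let ψ : FractionRing R →+* Γ(C, ⊤) := Coh.toGlobal f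
  have hψ : ∀ r : R, g.appTop.hom (show Γ(X, ⊤) from Coh.toGlobal p r) =
      ψ (algebraMap R (FractionRing R) r) := fun r => appTop_toGlobal_generic f p g hpb r
  suffices h : Function.Surjective ψ from h
  intro s
  obtain ⟨s', hs'⟩ := key (X.basicOpen π) (opensRange_eq_basicOpen f p g hpb ϖ hϖ) hDle s
  obtain ⟨n, y, hy⟩ := exists_eq_pow_mul_of_isCompact_of_isQuasiSeparated X ⊤
    CompactSpace.isCompact_univ isQuasiSeparated_univ π s'
  obtain ⟨r, hr⟩ := hX y
  -- push to `C`
  have hres : ∀ z : Γ(X, ⊤), (g.appLE (X.basicOpen π) ⊤ hDle).hom (z |_ X.basicOpen π) =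
      g.appTop.hom z := by
    intro z
    change ((X.presheaf.map (homOfLE (X.basicOpen_le π)).op) ≫
      g.appLE (X.basicOpen π) ⊤ hDle).hom z = _
    rw [Scheme.Hom.map_appLE]
    exact congrArg (fun φ => φ.hom z) (g.app_eq_appLE (U := ⊤)).symm
  have h3 := congrArg (g.appLE (X.basicOpen π) ⊤ hDle).hom hy
  rw [map_mul, map_pow, hres, hres, hs'] at h3
  have h4 : g.appTop.hom y = ψ (algebraMap R (FractionRing R) r) := by
    rw [← hψ r]
    exact congrArg _ hr.symm
  have h5 : g.appTop.hom π = ψ (algebraMap R (FractionRing R) ϖ) := hψ ϖ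
  rw [h4, h5] at h3
  have hne : algebraMap R (FractionRing R) ϖ ≠ 0 := by
    rw [Ne, map_eq_zero_iff _ (IsFractionRing.injective R (FractionRing R))]
    exact hϖ.ne_zero
  refine ⟨algebraMap R (FractionRing R) r * (algebraMap R (FractionRing R) ϖ ^ n)⁻¹, ?_⟩
  have h6 : ψ ((algebraMap R (FractionRing R) ϖ ^ n)⁻¹) *
      ψ (algebraMap R (FractionRing R) ϖ) ^ n = 1 := by
    have h8 : ψ ((algebraMap R (FractionRing R) ϖ ^ n)⁻¹ * algebraMap R (FractionRing R) ϖ ^ n) =
        ψ ((algebraMap R (FractionRing R) ϖ ^ n)⁻¹) * ψ (algebraMap R (FractionRing R) ϖ) ^ n := by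
      rw [map_mul, map_pow]
    rw [← h8, inv_mul_cancel₀ (pow_ne_zero n hne), map_one]
  have h7 : s = s * (ψ ((algebraMap R (FractionRing R) ϖ ^ n)⁻¹) *
      ψ (algebraMap R (FractionRing R) ϖ) ^ n) := by
    rw [h6, mul_one]
  rw [h7, map_mul, h3]
  ring

include hpb in
/-- **the generic fibre is geometrically integral** when `Γ(X, O_X) = R`. -/
theorem geometricallyIntegral_generic [IsProper p] [Nonempty C] [SmoothOfRelativeDimension 1 f]
    (hX : Function.Surjective (Coh.toGlobal p)) : GeometricallyIntegral f := by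
  haveI : CompactSpace X := QuasiCompact.compactSpace_of_compactSpace p
  haveI : QuasiSeparatedSpace X := quasiSeparatedSpace_of_quasiSeparated p
  have hsurj := toGlobal_surjective_generic f p g hpb hX
  letI : C.Over (Spec (CommRingCat.of (FractionRing R))) := ⟨f⟩
  haveI : IsProper (C ↘ Spec (CommRingCat.of (FractionRing R))) :=
    MorphismProperty.of_isPullback hpb ‹IsProper p›
  haveI : Smooth (C ↘ Spec (CommRingCat.of (FractionRing R))) :=
    SmoothOfRelativeDimension.smooth 1 f
  have h1 : Module.finrank (FractionRing R) (Coh.HH C (Coh.structureModule C) 0) = 1 := by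
    rw [Groth.Agent.LD.FF.finrank_HH0_eq]
    letI : Algebra (FractionRing R) Γ(C, ⊤) := (Coh.toGlobal f).toAlgebra
    haveI : Nonempty (⊤ : C.Opens) := ⟨⟨Classical.arbitrary _, trivial⟩⟩
    haveI : Nontrivial Γ(C, ⊤) := inferInstance
    have e : FractionRing R ≃ₗ[FractionRing R] Γ(C, ⊤) :=
      LinearEquiv.ofBijective (Algebra.linearMap (FractionRing R) Γ(C, ⊤))
        ⟨(algebraMap (FractionRing R) Γ(C, ⊤)).injective, hsurj⟩
    exact e.symm.finrank_eq.trans (Module.finrank_self _)
  have h2 := Groth.Agent.H5.SD.h0_eq_one_iff_geomConn_iff_geomIntegral (FractionRing R) C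
  exact h2.2.mp (h2.1.mp h1)

end generic

end Groth.Agent.H5.GenStalk
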