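import Mathlib
import Groth.Agent.Lib.Helper5.ArS.FibDec

/-!
# Coordinate rings of a flat `R`-scheme with geometrically integral generic fibre
(helper5, for S17020)
-/

set_option autoImplicit false
set_option linter.style.haveILetI false
universe u
open CategoryTheory CategoryTheory.Limits AlgebraicGeometry TopologicalSpace Opposite
open scoped TensorProduct

namespace Groth.Agent.H5.GenStalk

open Groth.Agent.H5.ArS

variable {R : Type u} [CommRing R] [IsDomain R] [IsDiscreteValuationRing R]

lemma fromSpec_comp_eq {X : Scheme.{u}} (p : X ⟶ Spec (CommRingCat.of R)) {U : X.Opens}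
    (hU : IsAffineOpen U) :
    hU.fromSpec ≫ p = Spec.map (CommRingCat.ofHom (toSec (Over.mk p) U)) := by
  have h1 := IsAffineOpen.SpecMap_appLE_fromSpec p (isAffineOpen_top _) hU le_top
  rw [← h1]
  have h2 : (isAffineOpen_top (Spec (CommRingCat.of R))).fromSpec =
      Spec.map (Scheme.ΓSpecIso (CommRingCat.of R)).inv := by
    rw [IsAffineOpen.fromSpec_top, Scheme.isoSpec_Spec_inv]
  rw [h2, ← Spec.map_comp]
  rfl

variable {C X : Scheme.{u}} (f : C ⟶ Spec (CommRingCat.of (FractionRing R)))
  (p : X ⟶ Spec (CommRingCat.of R)) (g : C ⟶ X)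
  (hpb : IsPullback g f p (Spec.map (CommRingCat.ofHom (algebraMap R (FractionRing R)))))

include hpb in
/-- the coordinate ring of an affine open of a flat `R`-scheme with geometrically integral
generic fibre stays a domain after tensoring with any field extension of `Frac R`. -/
theorem isDomain_tensor_of_geometricallyIntegral [GeometricallyIntegral f] [Flat p]
    (U : X.Opens) (hU : IsAffineOpen U) (hne : (U : Set X).Nonempty)
    (E : Type u) [Field E] [Algebra R E] [Algebra (FractionRing R) E]
    [IsScalarTower R (FractionRing R) E] :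
    letI : Algebra R Γ(X, U) := (toSec (Over.mk p) U).toAlgebra
    IsDomain (E ⊗[R] Γ(X, U)) := by
  letI alg : Algebra R Γ(X, U) := (toSec (Over.mk p) U).toAlgebra
  haveI : Flat (Over.mk p).hom := ‹Flat p›
  haveI hflat : Module.Flat R Γ(X, U) := toSec_flat (X := Over.mk p) hU
  set e := Spec.map (CommRingCat.ofHom (algebraMap R E)) with he
  set y := Spec.map (CommRingCat.ofHom (algebraMap (FractionRing R) E)) with hy
  set ι := Spec.map (CommRingCat.ofHom (algebraMap R (FractionRing R))) with hι
  have hey : e = y ≫ ι := by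
    rw [he, hy, hι, ← Spec.map_comp, ← CommRingCat.ofHom_comp,
      ← IsScalarTower.algebraMap_eq R (FractionRing R) E]
  -- the base change of `X` to `E` is integral
  have hcomm : pullback.fst p e ≫ p = (pullback.snd p e ≫ y) ≫ ι := by
    rw [pullback.condition, Category.assoc, ← hey]
  have hZ : IsPullback (hpb.lift (pullback.fst p e) (pullback.snd p e ≫ y) hcomm)
      (pullback.snd p e) f y := by
    refine IsPullback.of_right ?_ (hpb.lift_snd _ _ _) hpb
    rw [hpb.lift_fst, ← hey]
    exact IsPullback.of_hasPullback p e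
  haveI : IsIntegral (pullback p e) :=
    GeometricallyIntegral.geometrically_isIntegral (f := f) y _ _ hZ
  -- the open immersion of `Spec (A ⊗ E)`
  have hRE : Function.Injective (algebraMap R E) := by
    rw [IsScalarTower.algebraMap_eq R (FractionRing R) E]
    exact (algebraMap (FractionRing R) E).injective.comp (IsFractionRing.injective R (FractionRing R))
  have hfs : hU.fromSpec ≫ p = Spec.map (CommRingCat.ofHom (algebraMap R Γ(X, U))) :=
    fromSpec_comp_eq p hU
  let j : pullback (Spec.map (CommRingCat.ofHom (algebraMap R Γ(X, U)))) e ⟶ pullback p e :=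
    pullback.map _ e p e hU.fromSpec (𝟙 _) (𝟙 _) (by rw [Category.comp_id, hfs])
      (by rw [Category.comp_id, Category.id_comp])
  haveI : IsOpenImmersion j := inferInstance
  haveI : Nonempty U := ⟨⟨hne.choose, hne.choose_spec⟩⟩
  haveI : Nontrivial Γ(X, U) := inferInstance
  haveI : Nontrivial (Γ(X, U) ⊗[R] E) :=
    (Algebra.TensorProduct.includeLeft_injective (R := R) (S := R) (A := Γ(X, U)) (B := E)
      hRE).nontrivial
  haveI : Nonempty (Spec (CommRingCat.of (Γ(X, U) ⊗[R] E))) :=
    inferInstanceAs (Nonempty (PrimeSpectrum (Γ(X, U) ⊗[R] E)))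
  haveI : IsIntegral (Spec (CommRingCat.of (Γ(X, U) ⊗[R] E))) :=
    isIntegral_of_isOpenImmersion ((pullbackSpecIso R Γ(X, U) E).inv ≫ j)
  haveI : IsDomain (Γ(X, U) ⊗[R] E) :=
    (affine_isIntegral_iff (CommRingCat.of (Γ(X, U) ⊗[R] E))).mp inferInstance
  exact MulEquiv.isDomain (Γ(X, U) ⊗[R] E)
    (Algebra.TensorProduct.comm R E Γ(X, U)).toRingEquiv.toMulEquiv

end Groth.Agent.H5.GenStalk
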