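import Mathlib
import Groth.Agent.S17018
import Groth.Agent.Lib.Helper5.GenStalk.GsA
import Groth.Agent.Lib.Helper5.GenStalk.GsB
import Groth.Agent.Lib.Helper5.GenStalk.GsC
import Groth.Agent.Lib.Helper5.GenStalk.GsD

/-!
# S17020: `F ⊗_R O_{X,ξ}` is a field (helper5)
-/

set_option autoImplicit false
set_option linter.style.haveILetI false
universe u
open CategoryTheory CategoryTheory.Limits AlgebraicGeometry TopologicalSpace Opposite
open scoped TensorProduct

namespace Groth.Agent.H5.GenStalk

open Groth.Agent.H5.ArS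

/-- a ring map from a DVR `R` to a DVR `B` with `𝔪_B = 𝔪_R B` is local and injective. -/
theorem isLocalHom_and_injective_of_maximalIdeal_eq (R B : Type*) [CommRing R] [IsDomain R]
    [IsDiscreteValuationRing R] [CommRing B] [IsDomain B] [IsDiscreteValuationRing B]
    [Algebra R B]
    (h : IsLocalRing.maximalIdeal B = Ideal.map (algebraMap R B) (IsLocalRing.maximalIdeal R)) :
    IsLocalHom (algebraMap R B) ∧ Function.Injective (algebraMap R B) := by
  obtain ⟨ϖ, hϖ⟩ := IsDiscreteValuationRing.exists_irreducible R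
  refine ⟨((IsLocalRing.local_hom_TFAE (algebraMap R B)).out 0 2).mpr (by rw [h]), ?_⟩
  rw [injective_iff_map_eq_zero]
  intro r hr
  by_contra hr0
  obtain ⟨n, u, hu⟩ := IsDiscreteValuationRing.eq_unit_mul_pow_irreducible hr0 hϖ
  rw [hu, map_mul, map_pow] at hr
  have h1 : algebraMap R B ϖ = 0 := by
    rcases mul_eq_zero.mp hr with h2 | h2
    · exact absurd h2 ((u.isUnit.map (algebraMap R B)).ne_zero)
    · exact eq_zero_of_pow_eq_zero h2
  have h3 : IsLocalRing.maximalIdeal B = ⊥ := by
    rw [h, hϖ.maximalIdeal_eq, Ideal.map_span, Set.image_singleton, h1]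
    simp
  exact IsDiscreteValuationRing.not_a_field B h3


/-- the localization data of the stalk at a point of an affine open, transported along an
isomorphism of the stalk with a ring `B`. -/
theorem stalk_data {R : Type u} [CommRing R] {X : Scheme.{u}} (f : X ⟶ Spec (CommRingCat.of R))
    (x : X) (B : Type u) [CommRing B] [Algebra R B]
    (e : X.presheaf.stalk x ≅ CommRingCat.of B)
    (he : e.hom.hom.comp ((X.presheaf.germ ⊤ x trivial).hom.comp (Coh.toGlobal f)) =
      algebraMap R B) (U : X.Opens) (hU : IsAffineOpen U) (hxU : x ∈ U) :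
    letI : Algebra R Γ(X, U) := (toSec (Over.mk f) U).toAlgebra
    letI : Algebra Γ(X, U) B := (e.hom.hom.comp (X.presheaf.germ U x hxU).hom).toAlgebra
    IsScalarTower R Γ(X, U) B ∧ IsLocalization.AtPrime B (hU.primeIdealOf ⟨x, hxU⟩).asIdeal := by
  letI algA : Algebra R Γ(X, U) := (toSec (Over.mk f) U).toAlgebra
  letI algAB : Algebra Γ(X, U) B := (e.hom.hom.comp (X.presheaf.germ U x hxU).hom).toAlgebra
  constructor
  · refine IsScalarTower.of_algebraMap_eq' ?_
    rw [← he]
    refine RingHom.ext fun r => ?_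
    change e.hom.hom ((X.presheaf.germ ⊤ x trivial).hom (Coh.toGlobal f r)) =
      e.hom.hom ((X.presheaf.germ U x hxU).hom
        ((X.presheaf.map (homOfLE (le_top : U ≤ ⊤)).op).hom (Coh.toGlobal f r)))
    congr 1
    exact (TopCat.Presheaf.germ_res_apply X.presheaf (homOfLE (le_top : U ≤ ⊤)) x hxU _).symm
  · letI algSt : Algebra Γ(X, U) (X.presheaf.stalk x) :=
      TopCat.Presheaf.algebra_section_stalk X.presheaf (⟨x, hxU⟩ : U)
    haveI : IsLocalization.AtPrime (X.presheaf.stalk x) (hU.primeIdealOf ⟨x, hxU⟩).asIdeal :=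
      hU.isLocalization_stalk ⟨x, hxU⟩
    let ε : X.presheaf.stalk x ≃ₐ[Γ(X, U)] B :=
      { e.commRingCatIsoToRingEquiv with
        commutes' := fun a => rfl }
    exact IsLocalization.isLocalization_of_algEquiv _ ε

/-- **S17020.** -/
theorem main17020
    (R : Type u) [CommRing R] [IsDomain R] [IsDiscreteValuationRing R]
    [IsAlgClosed (IsLocalRing.ResidueField R)]
    (X : Scheme.{u}) (f : X ⟶ Spec (CommRingCat.of R)) [IsProper f] [Flat f]
    (XK : Scheme.{u}) (gK : XK ⟶ X) (fK : XK ⟶ Spec (CommRingCat.of (FractionRing R)))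
    (hK : IsPullback gK fK f (Spec.map (CommRingCat.ofHom (algebraMap R (FractionRing R)))))
    [SmoothOfRelativeDimension 1 fK] [ConnectedSpace XK]
    (Xs : Scheme.{u}) (gs : Xs ⟶ X) (fs : Xs ⟶ Spec (CommRingCat.of (IsLocalRing.ResidueField R)))
    (hs : IsPullback gs fs f (Spec.map (CommRingCat.ofHom (IsLocalRing.residue R))))
    [ConnectedSpace Xs] [IsReduced Xs]
    (ξ : Xs) (hξ : closure ({ξ} : Set Xs) ∈ irreducibleComponents Xs)
    (B : Type u) [CommRing B] [IsDomain B] [IsDiscreteValuationRing B] [Algebra R B]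
    (e : X.presheaf.stalk (gs.base ξ) ≅ CommRingCat.of B)
    (he : e.hom.hom.comp ((X.presheaf.germ ⊤ (gs.base ξ) trivial).hom.comp (Coh.toGlobal f)) =
      algebraMap R B) :
    IsField (AlgebraicClosure (FractionRing R) ⊗[R] B) := by
  classical
  have hmax := Groth.Agent.S17018.result R X f XK gK fK hK Xs gs fs hs ξ hξ B e he
  obtain ⟨hloc, hinj⟩ := isLocalHom_and_injective_of_maximalIdeal_eq R B hmax
  haveI := hloc
  -- geometric input
  haveI : IsProper (Over.mk f).hom := ‹IsProper f›
  haveI : Flat (Over.mk f).hom := ‹Flat f›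
  have hsurj : Function.Surjective (Coh.toGlobal f) :=
    toGlobal_surjective (Over.mk f) gs fs hs
  haveI : Nonempty XK := inferInstance
  haveI : GeometricallyIntegral fK := geometricallyIntegral_generic fK f gK hK hsurj
  -- an affine neighbourhood
  obtain ⟨U, hU, hxU, -⟩ := exists_isAffineOpen_mem_and_subset (x := gs.base ξ)
    (U := (⊤ : X.Opens)) trivial
  letI algA : Algebra R Γ(X, U) := (toSec (Over.mk f) U).toAlgebra
  have hdom := isDomain_tensor_of_geometricallyIntegral fK f gK hK U hU ⟨gs.base ξ, hxU⟩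
    (AlgebraicClosure (FractionRing R))
  haveI : Module.Flat R Γ(X, U) := toSec_flat (X := Over.mk f) hU
  letI algAB : Algebra Γ(X, U) B :=
    (e.hom.hom.comp (X.presheaf.germ U (gs.base ξ) hxU).hom).toAlgebra
  obtain ⟨hst, hlocB⟩ := stalk_data f (gs.base ξ) B e he U hU hxU
  haveI := hst
  haveI := hlocB
  exact isField_tensor_of_isDomain R (AlgebraicClosure (FractionRing R)) Γ(X, U) B
    (hU.primeIdealOf ⟨gs.base ξ, hxU⟩).asIdeal hinj hdom

end Groth.Agent.H5.GenStalk
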