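import Mathlib

/-!
# A criterion for a domain to be a discrete valuation ring (helper5, for S17019)
-/

set_option autoImplicit false
universe u

namespace Groth.Agent.H5.GenStalk

/-- **DVR criterion**: a domain `C` embedded in a field `L`, with a nonzero nonunit `t` such that
every element of `L` becomes an element of `C` after multiplication by a power of `t` and every
element of `C` is either divisible by `t` or invertible modulo `t`, is a discrete valuation ring. -/
theorem isDiscreteValuationRing_of_embedding (C : Type*) [CommRing C] [IsDomain C]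
    (L : Type*) [Field L] (j : C →+* L) (hj : Function.Injective j) (t : C) (ht0 : t ≠ 0)
    (hsurj : ∀ z : L, ∃ (m : ℕ) (d : C), z * j t ^ m = j d)
    (htu : ¬ IsUnit t)
    (hmod : ∀ c : C, t ∣ c ∨ ∃ d w : C, c * d = 1 + t * w) :
    IsDiscreteValuationRing C := by
  have hjt : j t ≠ 0 := by rwa [Ne, map_eq_zero_iff j hj]
  -- Step A: elements `1 + t w` are units
  have hA : ∀ (m : ℕ) (w d : C), (1 + t * w) * d = t ^ m → IsUnit (1 + t * w) := by
    intro m
    induction m with
    | zero =>
      intro w d h
      rw [pow_zero] at h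
      exact IsUnit.of_mul_eq_one d h
    | succ m ih =>
      intro w d h
      have hd : d = t * (t ^ m - w * d) := by linear_combination h
      have h' : (1 + t * w) * (t ^ m - w * d) = t ^ m := by
        have h2 : t * ((1 + t * w) * (t ^ m - w * d)) = t * t ^ m := by
          calc t * ((1 + t * w) * (t ^ m - w * d))
              = (1 + t * w) * (t * (t ^ m - w * d)) := by ring
            _ = (1 + t * w) * d := by rw [← hd]
            _ = t ^ (m + 1) := h
            _ = t * t ^ m := by ring
        exact mul_left_cancel₀ ht0 h2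
      exact ih w _ h'
  have hunit1 : ∀ w, IsUnit (1 + t * w) := by
    intro w
    have hne : j (1 + t * w) ≠ 0 := by
      rw [Ne, map_eq_zero_iff j hj]
      intro h
      apply htu
      exact IsUnit.of_mul_eq_one (-w) (by linear_combination -h)
    obtain ⟨m, d, hd⟩ := hsurj (j (1 + t * w))⁻¹
    have h1 : (1 + t * w) * d = t ^ m := by
      apply hj
      rw [map_mul, map_pow, ← hd, ← mul_assoc, mul_inv_cancel₀ hne, one_mul]
    exact hA m w d h1
  -- Step B: an element not divisible by `t` is a unit
  have hB : ∀ c, ¬ t ∣ c → IsUnit c := by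
    intro c hc
    rcases hmod c with h | ⟨d, w, h⟩
    · exact absurd h hc
    · exact isUnit_of_mul_isUnit_left (h ▸ hunit1 w)
  -- Step C: factorization
  have hC : ∀ (m : ℕ) (c d : C), c * d = t ^ m →
      ∃ (n : ℕ) (u : C), IsUnit u ∧ c = t ^ n * u := by
    intro m
    induction m with
    | zero =>
      intro c d h
      rw [pow_zero] at h
      exact ⟨0, c, IsUnit.of_mul_eq_one d h, by simp⟩
    | succ m ih =>
      intro c d h
      by_cases hc : t ∣ c
      · obtain ⟨c₁, rfl⟩ := hc
        have h2 : c₁ * d = t ^ m :=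
          mul_left_cancel₀ ht0 (by rw [← mul_assoc, h, pow_succ]; ring)
        obtain ⟨n, u, hu, rfl⟩ := ih c₁ d h2
        exact ⟨n + 1, u, hu, by ring⟩
      · exact ⟨0, c, hB c hc, by simp⟩
  have hfac : ∀ c : C, c ≠ 0 → ∃ (n : ℕ) (u : C), IsUnit u ∧ c = t ^ n * u := by
    intro c hc
    have hne : j c ≠ 0 := by rwa [Ne, map_eq_zero_iff j hj]
    obtain ⟨m, d, hd⟩ := hsurj (j c)⁻¹
    have h1 : c * d = t ^ m := by
      apply hj
      rw [map_mul, map_pow, ← hd, ← mul_assoc, mul_inv_cancel₀ hne, one_mul]
    exact hC m c d h1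
  -- `t` is irreducible
  have hirr : Irreducible t := by
    refine ⟨htu, fun a b hab => ?_⟩
    have ha0 : a ≠ 0 := by
      rintro rfl
      rw [zero_mul] at hab
      exact ht0 hab
    have hb0 : b ≠ 0 := by
      rintro rfl
      rw [mul_zero] at hab
      exact ht0 hab
    obtain ⟨n, u, hu, rfl⟩ := hfac a ha0
    obtain ⟨n', v, hv, rfl⟩ := hfac b hb0
    rcases n with _ | n
    · left
      simpa using hu
    · rcases n' with _ | n'
      · right
        simpa using hv
      · exfalso
        have h2 : t * 1 = t * (t * (t ^ (n + n') * (u * v))) := by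
          rw [mul_one]
          nth_rewrite 1 [hab]
          ring
        have h1 := mul_left_cancel₀ ht0 h2
        exact htu (IsUnit.of_mul_eq_one _ h1.symm)
  refine IsDiscreteValuationRing.ofHasUnitMulPowIrreducibleFactorization
    ⟨t, hirr, fun {x} hx => ?_⟩
  obtain ⟨n, u, hu, rfl⟩ := hfac x hx
  exact ⟨n, ⟨hu.unit, by rw [IsUnit.unit_spec]⟩⟩

end Groth.Agent.H5.GenStalk
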