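import Mathlib
import Groth.Agent.S17018
import Groth.Agent.Lib.Helper5.GenStalk.GsA
import Groth.Agent.Lib.Helper5.GenStalk.GsB
import Groth.Agent.Lib.Helper5.GenStalk.GsC
import Groth.Agent.Lib.Helper5.GenStalk.GsD
import Groth.Agent.Lib.Helper5.GenStalk.GsE

/-!
# S17020 for an arbitrary algebraic extension, with flatness of the stalk (helper5, for S17019)
-/

set_option autoImplicit false
set_option linter.style.haveILetI false
universe u
open CategoryTheory CategoryTheory.Limits AlgebraicGeometry TopologicalSpace Opposite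
open scoped TensorProduct

namespace Groth.Agent.H5.GenStalk

open Groth.Agent.H5.ArS

/-- **S17020 for any algebraic extension `E` of `Frac R`**, together with the flatness of the stalk
`B` over `R`, the equality `𝔪_B = 𝔪_R B` and the injectivity of `R → B`. -/
theorem main17020_general
    (R : Type u) [CommRing R] [IsDomain R] [IsDiscreteValuationRing R]
    [IsAlgClosed (IsLocalRing.ResidueField R)]
    (X : Scheme.{u}) (f : X ⟶ Spec (CommRingCat.of R)) [IsProper f] [Flat f]
    (XK : Scheme.{u}) (gK : XK ⟶ X) (fK : XK ⟶ Spec (CommRingCat.of (FractionRing R)))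
    (hK : IsPullback gK fK f (Spec.map (CommRingCat.ofHom (algebraMap R (FractionRing R)))))
    [SmoothOfRelativeDimension 1 fK] [ConnectedSpace XK]
    (Xs : Scheme.{u}) (gs : Xs ⟶ X) (fs : Xs ⟶ Spec (CommRingCat.of (IsLocalRing.ResidueField R)))
    (hs : IsPullback gs fs f (Spec.map (CommRingCat.ofHom (IsLocalRing.residue R))))
    [ConnectedSpace Xs] [IsReduced Xs]
    (ξ : Xs) (hξ : closure ({ξ} : Set Xs) ∈ irreducibleComponents Xs)
    (B : Type u) [CommRing B] [IsDomain B] [IsDiscreteValuationRing B] [Algebra R B]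
    (e : X.presheaf.stalk (gs.base ξ) ≅ CommRingCat.of B)
    (he : e.hom.hom.comp ((X.presheaf.germ ⊤ (gs.base ξ) trivial).hom.comp (Coh.toGlobal f)) =
      algebraMap R B)
    (E : Type u) [Field E] [Algebra R E] [Algebra (FractionRing R) E]
    [IsScalarTower R (FractionRing R) E] [Algebra.IsAlgebraic (FractionRing R) E] :
    IsField (E ⊗[R] B) ∧ Module.Flat R B ∧
      IsLocalRing.maximalIdeal B = Ideal.map (algebraMap R B) (IsLocalRing.maximalIdeal R) ∧
      Function.Injective (algebraMap R B) ∧ IsLocalHom (algebraMap R B) := by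
  classical
  have hmax := Groth.Agent.S17018.result R X f XK gK fK hK Xs gs fs hs ξ hξ B e he
  obtain ⟨hloc, hinj⟩ := isLocalHom_and_injective_of_maximalIdeal_eq R B hmax
  haveI := hloc
  -- geometric input
  haveI : IsProper (Over.mk f).hom := ‹IsProper f›
  haveI : Flat (Over.mk f).hom := ‹Flat f›
  have hsurj : Function.Surjective (Coh.toGlobal f) :=
    toGlobal_surjective (Over.mk f) gs fs hs
  haveI : Nonempty XK := inferInstance
  haveI : GeometricallyIntegral fK := geometricallyIntegral_generic fK f gK hK hsurj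
  -- an affine neighbourhood
  obtain ⟨U, hU, hxU, -⟩ := exists_isAffineOpen_mem_and_subset (x := gs.base ξ)
    (U := (⊤ : X.Opens)) trivial
  letI algA : Algebra R Γ(X, U) := (toSec (Over.mk f) U).toAlgebra
  have hdom := isDomain_tensor_of_geometricallyIntegral fK f gK hK U hU ⟨gs.base ξ, hxU⟩ E
  haveI : Module.Flat R Γ(X, U) := toSec_flat (X := Over.mk f) hU
  letI algAB : Algebra Γ(X, U) B :=
    (e.hom.hom.comp (X.presheaf.germ U (gs.base ξ) hxU).hom).toAlgebra
  obtain ⟨hst, hlocB⟩ := stalk_data f (gs.base ξ) B e he U hU hxU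
  haveI := hst
  haveI := hlocB
  refine ⟨isField_tensor_of_isDomain R E Γ(X, U) B
    (hU.primeIdealOf ⟨gs.base ξ, hxU⟩).asIdeal hinj hdom, ?_, hmax, hinj, hloc⟩
  haveI : Module.Flat Γ(X, U) B :=
    IsLocalization.flat B (hU.primeIdealOf ⟨gs.base ξ, hxU⟩).asIdeal.primeCompl
  exact Module.Flat.trans R Γ(X, U) B

end Groth.Agent.H5.GenStalk
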