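import Mathlib

/-!
# Algebraic lemmas on generically finite extensions of discrete valuation rings (helper5, S17019)
-/

set_option autoImplicit false
set_option linter.style.haveILetI false
universe u
open scoped TensorProduct

namespace Groth.Agent.H5.GenStalk

/-- if `Frac R ⊗_R R'` is finite over `Frac R`, then `R'` is algebraic over `R` and `Frac R'` is
algebraic over `Frac R`. -/
theorem isAlgebraic_of_finite_tensor
    (R : Type*) [CommRing R] [IsDomain R] (R' : Type*) [CommRing R'] [IsDomain R'] [Algebra R R']
    [Module.Finite (FractionRing R) (FractionRing R ⊗[R] R')]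
    (E : Type*) [Field E] [Algebra R' E] [IsFractionRing R' E] [Algebra R E] [IsScalarTower R R' E]
    [Algebra (FractionRing R) E] [IsScalarTower R (FractionRing R) E] :
    Algebra.IsAlgebraic R R' ∧ Algebra.IsAlgebraic (FractionRing R) E := by
  have h1 : ∀ x : R', IsIntegral (FractionRing R) (algebraMap R' E x) := by
    intro x
    let φ : FractionRing R ⊗[R] R' →ₐ[FractionRing R] E :=
      Algebra.TensorProduct.lift (Algebra.ofId (FractionRing R) E) (IsScalarTower.toAlgHom R R' E)
        (fun _ _ => Commute.all _ _)
    have hint : IsIntegral (FractionRing R) ((1 : FractionRing R) ⊗ₜ[R] x) :=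
      Algebra.IsIntegral.isIntegral _
    have h2 := hint.map φ
    have h3 : φ ((1 : FractionRing R) ⊗ₜ[R] x) = algebraMap R' E x := by
      simp [φ]
    rw [h3] at h2
    exact h2
  constructor
  · refine ⟨fun x => ?_⟩
    rw [← isAlgebraic_algebraMap_iff (IsFractionRing.injective R' E),
      IsFractionRing.isAlgebraic_iff R (FractionRing R) E]
    exact (h1 x).isAlgebraic
  · refine ⟨fun z => ?_⟩
    obtain ⟨a, b, -, rfl⟩ := IsFractionRing.div_surjective (A := R') z
    rw [isAlgebraic_iff_isIntegral, div_eq_mul_inv]
    exact (h1 a).mul (h1 b).inv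

/-- **residue fields do not grow**: if `R` is a discrete valuation ring with algebraically closed
residue field and `R → R'` is an algebraic local homomorphism to a local ring, then every element
of `R'` is congruent to an element of `R` modulo the maximal ideal. -/
theorem exists_sub_mem_maximalIdeal
    (R : Type*) [CommRing R] [IsDomain R] [IsDiscreteValuationRing R]
    [IsAlgClosed (IsLocalRing.ResidueField R)]
    (R' : Type*) [CommRing R'] [IsDomain R'] [IsLocalRing R'] [Algebra R R']
    (hinj : Function.Injective (algebraMap R R')) [IsLocalHom (algebraMap R R')]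
    [Algebra.IsAlgebraic R R'] (x : R') :
    ∃ r : R, x - algebraMap R R' r ∈ IsLocalRing.maximalIdeal R' := by
  classical
  obtain ⟨ϖ, hϖ⟩ := IsDiscreteValuationRing.exists_irreducible R
  obtain ⟨Q, hQ0, hQx⟩ := Algebra.IsAlgebraic.isAlgebraic (R := R) x
  letI : StrongNormalizationMonoid R := UniqueFactorizationMonoid.strongNormalizationMonoid
  letI : NormalizedGCDMonoid R := UniqueFactorizationMonoid.toNormalizedGCDMonoid R
  have hQ' : Polynomial.eval₂ (algebraMap R R') x Q.primPart = 0 :=
    Polynomial.eval₂_primPart_eq_zero hinj hQ0 (by rwa [← Polynomial.aeval_def])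
  have hprim : Q.primPart.IsPrimitive := Q.isPrimitive_primPart
  have hne : Q.primPart.map (IsLocalRing.residue R) ≠ 0 := by
    intro h0
    have hdvd : Polynomial.C ϖ ∣ Q.primPart := by
      rw [Polynomial.C_dvd_iff_dvd_coeff]
      intro i
      have h2 : IsLocalRing.residue R (Q.primPart.coeff i) = 0 := by
        rw [← Polynomial.coeff_map, h0, Polynomial.coeff_zero]
      rw [IsLocalRing.residue_eq_zero_iff, hϖ.maximalIdeal_eq, Ideal.mem_span_singleton] at h2
      exact h2
    exact hϖ.not_isUnit (hprim ϖ hdvd)
  set ψ : IsLocalRing.ResidueField R →+* IsLocalRing.ResidueField R' :=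
    IsLocalRing.ResidueField.map (algebraMap R R') with hψ
  letI : Algebra (IsLocalRing.ResidueField R) (IsLocalRing.ResidueField R') := ψ.toAlgebra
  have hcomp : ψ.comp (IsLocalRing.residue R) = (IsLocalRing.residue R').comp (algebraMap R R') := by
    ext r
    simp [hψ, IsLocalRing.ResidueField.map_residue]
  have hev : Polynomial.aeval (IsLocalRing.residue R' x)
      (Q.primPart.map (IsLocalRing.residue R)) = 0 := by
    rw [Polynomial.aeval_def, Polynomial.eval₂_map]
    change Polynomial.eval₂ (ψ.comp (IsLocalRing.residue R)) _ _ = 0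
    rw [hcomp, ← Polynomial.hom_eval₂, hQ', map_zero]
  have halg : IsAlgebraic (IsLocalRing.ResidueField R) (IsLocalRing.residue R' x) :=
    ⟨_, hne, hev⟩
  have hint : IsIntegral (IsLocalRing.ResidueField R) (IsLocalRing.residue R' x) :=
    halg.isIntegral
  have hdeg := IsAlgClosed.degree_eq_one_of_irreducible (IsLocalRing.ResidueField R)
    (minpoly.irreducible hint)
  obtain ⟨y, hy⟩ := minpoly.mem_range_of_degree_eq_one (IsLocalRing.ResidueField R) _ hdeg
  obtain ⟨r, rfl⟩ := IsLocalRing.residue_surjective y
  refine ⟨r, ?_⟩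
  rw [← IsLocalRing.residue_eq_zero_iff, map_sub, ← hy]
  change ψ _ - _ = 0
  rw [hψ, IsLocalRing.ResidueField.map_residue, sub_self]

end Groth.Agent.H5.GenStalk
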