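import Mathlib
import Groth.Agent.Lib.Helper5.GenStalk.GsF

/-!
# `B ⊗_R R'` is a discrete valuation ring (helper5, algebraic core of S17019)
-/

set_option autoImplicit false
set_option linter.style.haveILetI false
universe u
open scoped TensorProduct

namespace Groth.Agent.H5.GenStalk

/-- **algebraic core of S17019**: let `R → B` be a flat local homomorphism of discrete valuation
rings with `𝔪_B = 𝔪_R B`, and `R → R'` a local homomorphism of discrete valuation rings inducing a
surjection on residue fields, such that `Frac R' ⊗_R B` is a field.  Then `B ⊗_R R'` is a discrete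
valuation ring. -/
theorem isDVR_tensor
    (R : Type*) [CommRing R] [IsDomain R] [IsDiscreteValuationRing R]
    (B : Type*) [CommRing B] [IsDomain B] [IsDiscreteValuationRing B] [Algebra R B]
    [Module.Flat R B] [IsLocalHom (algebraMap R B)]
    (hmax : IsLocalRing.maximalIdeal B = Ideal.map (algebraMap R B) (IsLocalRing.maximalIdeal R))
    (R' : Type*) [CommRing R'] [IsDomain R'] [IsDiscreteValuationRing R'] [Algebra R R']
    [IsLocalHom (algebraMap R R')]
    (hF1 : ∀ x : R', ∃ r : R, x - algebraMap R R' r ∈ IsLocalRing.maximalIdeal R')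
    (E : Type*) [Field E] [Algebra R' E] [IsFractionRing R' E] [Algebra R E] [IsScalarTower R R' E]
    (hL : IsField (E ⊗[R] B)) :
    ∃ _ : IsDomain (B ⊗[R] R'), IsDiscreteValuationRing (B ⊗[R] R') := by
  classical
  obtain ⟨ϖ, hϖ⟩ := IsDiscreteValuationRing.exists_irreducible R
  obtain ⟨π', hπ'⟩ := IsDiscreteValuationRing.exists_irreducible R'
  letI : Field (E ⊗[R] B) := hL.toField
  -- the embedding
  let j₀ : B ⊗[R] R' →ₐ[R] B ⊗[R] E :=
    Algebra.TensorProduct.map (AlgHom.id R B) (IsScalarTower.toAlgHom R R' E)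
  let j : B ⊗[R] R' →+* E ⊗[R] B :=
    ((Algebra.TensorProduct.comm R B E).toAlgHom.comp j₀).toRingHom
  have hj_tmul : ∀ (b : B) (x : R'), j (b ⊗ₜ[R] x) = algebraMap R' E x ⊗ₜ[R] b := fun b x => rfl
  have hj : Function.Injective j := by
    have h1 : Function.Injective j₀ :=
      Module.Flat.lTensor_preserves_injective_linearMap (M := B)
        (IsScalarTower.toAlgHom R R' E).toLinearMap (IsFractionRing.injective R' E)
    exact (Algebra.TensorProduct.comm R B E).injective.comp h1
  haveI : IsDomain (B ⊗[R] R') := hj.isDomain j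
  set t : B ⊗[R] R' := (1 : B) ⊗ₜ[R] π' with ht
  have hjt : j t = algebraMap R' E π' ⊗ₜ[R] (1 : B) := hj_tmul 1 π'
  have hπE : algebraMap R' E π' ≠ 0 := by
    rw [Ne, map_eq_zero_iff _ (IsFractionRing.injective R' E)]
    exact hπ'.ne_zero
  have hjt_unit : IsUnit (j t) := by
    rw [hjt]
    exact (IsUnit.mk0 _ hπE).map (Algebra.TensorProduct.includeLeft : E →ₐ[R] E ⊗[R] B)
  have ht0 : t ≠ 0 := fun h => hjt_unit.ne_zero (by rw [h, map_zero])
  -- every element of `E` is a fraction with denominator a power of `π'`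
  have hE : ∀ x : E, ∃ (m : ℕ) (a : R'), x * algebraMap R' E π' ^ m = algebraMap R' E a := by
    intro x
    obtain ⟨⟨a, s⟩, h⟩ := IsLocalization.surj (nonZeroDivisors R') x
    have hs0 : (s : R') ≠ 0 := nonZeroDivisors.ne_zero s.2
    obtain ⟨m, u, hu⟩ := IsDiscreteValuationRing.eq_unit_mul_pow_irreducible hs0 hπ'
    refine ⟨m, a * ↑u⁻¹, ?_⟩
    simp only at h
    rw [hu, map_mul, map_pow] at h
    rw [map_mul, ← h]
    have h1 : algebraMap R' E u * algebraMap R' E ↑u⁻¹ = 1 := by
      rw [← map_mul, Units.mul_inv, map_one]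
    linear_combination (-(x * algebraMap R' E π' ^ m)) * h1
  have hsurj : ∀ z : E ⊗[R] B, ∃ (m : ℕ) (d : B ⊗[R] R'), z * j t ^ m = j d := by
    intro z
    induction z using TensorProduct.induction_on with
    | zero => exact ⟨0, 0, by simp⟩
    | tmul x b =>
      obtain ⟨m, a, h⟩ := hE x
      refine ⟨m, b ⊗ₜ[R] a, ?_⟩
      rw [hjt, hj_tmul, Algebra.TensorProduct.tmul_pow, one_pow,
        Algebra.TensorProduct.tmul_mul_tmul, mul_one, h]
    | add z₁ z₂ h₁ h₂ =>
      obtain ⟨m₁, d₁, h₁⟩ := h₁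
      obtain ⟨m₂, d₂, h₂⟩ := h₂
      refine ⟨m₁ + m₂, d₁ * t ^ m₂ + d₂ * t ^ m₁, ?_⟩
      rw [map_add, map_mul, map_mul, map_pow, map_pow, ← h₁, ← h₂]
      ring
  -- `t` is not a unit
  have htu : ¬ IsUnit t := by
    let σ : R →+* IsLocalRing.ResidueField R' := (IsLocalRing.residue R').comp (algebraMap R R')
    have hσ : Function.Surjective σ := by
      intro y
      obtain ⟨x, rfl⟩ := IsLocalRing.residue_surjective y
      obtain ⟨r, hr⟩ := hF1 x
      refine ⟨r, ?_⟩
      rw [← IsLocalRing.residue_eq_zero_iff, map_sub, sub_eq_zero] at hr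
      exact hr.symm
    let τ : R →+* IsLocalRing.ResidueField B := (IsLocalRing.residue B).comp (algebraMap R B)
    have hker : RingHom.ker σ ≤ RingHom.ker τ := by
      intro r hr
      rw [RingHom.mem_ker] at hr ⊢
      change IsLocalRing.residue R' (algebraMap R R' r) = 0 at hr
      change IsLocalRing.residue B (algebraMap R B r) = 0
      rw [IsLocalRing.residue_eq_zero_iff, IsLocalRing.mem_maximalIdeal, mem_nonunits_iff] at hr ⊢
      intro h
      exact hr ((isUnit_of_map_unit (algebraMap R B) r h).map (algebraMap R R'))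
    let ρ : IsLocalRing.ResidueField R' →+* IsLocalRing.ResidueField B :=
      RingHom.liftOfSurjective σ hσ ⟨τ, hker⟩
    have hρ : ∀ r : R, ρ (σ r) = τ r := fun r =>
      RingHom.liftOfRightInverse_comp_apply σ _ _ ⟨τ, hker⟩ r
    let f₁ : B →ₐ[R] IsLocalRing.ResidueField B := IsScalarTower.toAlgHom R B _
    let f₂ : R' →ₐ[R] IsLocalRing.ResidueField B :=
      { ρ.comp (IsLocalRing.residue R') with
        commutes' := fun r => by
          change ρ (σ r) = _
          rw [hρ r, IsScalarTower.algebraMap_apply R B (IsLocalRing.ResidueField B)]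
          rfl }
    let q : B ⊗[R] R' →ₐ[R] IsLocalRing.ResidueField B :=
      Algebra.TensorProduct.lift f₁ f₂ (fun _ _ => Commute.all _ _)
    have hqt : q t = 0 := by
      rw [ht, Algebra.TensorProduct.lift_tmul, map_one, one_mul]
      change ρ (IsLocalRing.residue R' π') = 0
      rw [(IsLocalRing.residue_eq_zero_iff π').mpr
        (by rw [IsLocalRing.mem_maximalIdeal, mem_nonunits_iff]; exact hπ'.not_isUnit), map_zero]
    intro h
    exact (h.map q).ne_zero hqt
  -- membership in the maximal ideal of `R'`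
  have hπmem : ∀ y ∈ IsLocalRing.maximalIdeal R', ∃ y', y = π' * y' := by
    intro y hy
    rw [hπ'.maximalIdeal_eq, Ideal.mem_span_singleton] at hy
    exact hy
  have hstep1 : ∀ c : B ⊗[R] R', ∃ (b : B) (w : B ⊗[R] R'), c = b ⊗ₜ[R] (1 : R') + t * w := by
    intro c
    induction c using TensorProduct.induction_on with
    | zero => exact ⟨0, 0, by simp⟩
    | tmul b₀ x =>
      obtain ⟨r, hr⟩ := hF1 x
      obtain ⟨y', hy'⟩ := hπmem _ hr
      refine ⟨r • b₀, b₀ ⊗ₜ[R] y', ?_⟩
      have hx : x = r • (1 : R') + π' * y' := by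
        rw [← hy', ← Algebra.algebraMap_eq_smul_one]; ring
      rw [ht, Algebra.TensorProduct.tmul_mul_tmul, one_mul, TensorProduct.smul_tmul,
        ← TensorProduct.tmul_add, ← hx]
    | add c₁ c₂ h₁ h₂ =>
      obtain ⟨b₁, w₁, rfl⟩ := h₁
      obtain ⟨b₂, w₂, rfl⟩ := h₂
      exact ⟨b₁ + b₂, w₁ + w₂, by rw [TensorProduct.add_tmul]; ring⟩
  have hϖ' : ∃ y, algebraMap R R' ϖ = π' * y := hπmem _ (by
    rw [IsLocalRing.mem_maximalIdeal, mem_nonunits_iff]
    intro h
    exact hϖ.not_isUnit (isUnit_of_map_unit (algebraMap R R') ϖ h))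
  have hmod : ∀ c : B ⊗[R] R', t ∣ c ∨ ∃ d w, c * d = 1 + t * w := by
    intro c
    obtain ⟨b, w, rfl⟩ := hstep1 c
    by_cases hb : b ∈ IsLocalRing.maximalIdeal B
    · left
      rw [hmax, hϖ.maximalIdeal_eq, Ideal.map_span, Set.image_singleton,
        Ideal.mem_span_singleton] at hb
      obtain ⟨b', rfl⟩ := hb
      obtain ⟨y, hy⟩ := hϖ'
      have h1 : (algebraMap R B ϖ * b') ⊗ₜ[R] (1 : R') = t * (b' ⊗ₜ[R] y) := by
        rw [ht, Algebra.TensorProduct.tmul_mul_tmul, one_mul, ← hy, ← Algebra.smul_def,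
          Algebra.algebraMap_eq_smul_one, TensorProduct.smul_tmul]
      rw [h1, ← mul_add]
      exact dvd_mul_right _ _
    · right
      have hbu : IsUnit b := by
        rwa [IsLocalRing.mem_maximalIdeal, mem_nonunits_iff, not_not] at hb
      obtain ⟨b', hb'⟩ := hbu.exists_right_inv
      refine ⟨b' ⊗ₜ[R] (1 : R'), w * (b' ⊗ₜ[R] (1 : R')), ?_⟩
      rw [add_mul, Algebra.TensorProduct.tmul_mul_tmul, hb', one_mul,
        Algebra.TensorProduct.one_def]
      ring
  exact ⟨inferInstance, isDiscreteValuationRing_of_embedding _ _ j hj t ht0 hsurj htu hmod⟩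

end Groth.Agent.H5.GenStalk
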