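import Mathlib
import Groth.Agent.Lib.Helper5.GenStalk.GsG
import Groth.Agent.Lib.Helper5.GenStalk.GsH
import Groth.Agent.Lib.Helper5.GenStalk.GsI

/-!
# S17019: `O_{X,ξ} ⊗_R R'` is a discrete valuation ring (helper5)
-/

set_option autoImplicit false
set_option linter.style.haveILetI false
universe u
open CategoryTheory CategoryTheory.Limits AlgebraicGeometry TopologicalSpace Opposite
open scoped TensorProduct

namespace Groth.Agent.H5.GenStalk

/-- **S17019.** -/
theorem main17019
    (R : Type u) [CommRing R] [IsDomain R] [IsDiscreteValuationRing R]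
    [IsAlgClosed (IsLocalRing.ResidueField R)]
    (X : Scheme.{u}) (f : X ⟶ Spec (CommRingCat.of R)) [IsProper f] [Flat f]
    (XK : Scheme.{u}) (gK : XK ⟶ X) (fK : XK ⟶ Spec (CommRingCat.of (FractionRing R)))
    (hK : IsPullback gK fK f (Spec.map (CommRingCat.ofHom (algebraMap R (FractionRing R)))))
    [SmoothOfRelativeDimension 1 fK] [ConnectedSpace XK]
    (Xs : Scheme.{u}) (gs : Xs ⟶ X) (fs : Xs ⟶ Spec (CommRingCat.of (IsLocalRing.ResidueField R)))
    (hs : IsPullback gs fs f (Spec.map (CommRingCat.ofHom (IsLocalRing.residue R))))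
    [ConnectedSpace Xs] [IsReduced Xs]
    (ξ : Xs) (hξ : closure ({ξ} : Set Xs) ∈ irreducibleComponents Xs)
    (B : Type u) [CommRing B] [IsDomain B] [IsDiscreteValuationRing B] [Algebra R B]
    (e : X.presheaf.stalk (gs.base ξ) ≅ CommRingCat.of B)
    (he : e.hom.hom.comp ((X.presheaf.germ ⊤ (gs.base ξ) trivial).hom.comp (Coh.toGlobal f)) =
      algebraMap R B)
    (R' : Type u) [CommRing R'] [IsDomain R'] [IsDiscreteValuationRing R'] [Algebra R R']
    (hinj : Function.Injective (algebraMap R R')) [IsLocalHom (algebraMap R R')]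
    [Module.Finite (FractionRing R) (FractionRing R ⊗[R] R')] :
    ∃ _ : IsDomain (B ⊗[R] R'), IsDiscreteValuationRing (B ⊗[R] R') := by
  classical
  haveI : IsScalarTower R R' (FractionRing R') := inferInstance
  have hRE : Function.Injective (algebraMap R (FractionRing R')) := by
    rw [IsScalarTower.algebraMap_eq R R' (FractionRing R')]
    exact (IsFractionRing.injective R' (FractionRing R')).comp hinj
  letI algKE : Algebra (FractionRing R) (FractionRing R') := (IsFractionRing.lift hRE).toAlgebra
  haveI : IsScalarTower R (FractionRing R) (FractionRing R') :=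
    IsScalarTower.of_algebraMap_eq fun x => (IsFractionRing.lift_algebraMap hRE x).symm
  obtain ⟨halg1, halg2⟩ := isAlgebraic_of_finite_tensor R R' (FractionRing R')
  haveI := halg1
  haveI := halg2
  obtain ⟨hL, hflat, hmax, -, hloc⟩ := main17020_general R X f XK gK fK hK Xs gs fs hs ξ hξ B e he
    (FractionRing R')
  haveI := hflat
  haveI := hloc
  exact isDVR_tensor R B hmax R' (exists_sub_mem_maximalIdeal R R' hinj) (FractionRing R') hL

end Groth.Agent.H5.GenStalk
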